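import Groth.Agent.H1.HomDiag.ClassifyLocal

/-!
# H1/HomDiag/LocSplit: a homomorphism between two groups which become diagonalisable over (possibly
different) covers is, Zariski-locally on the fibre product of the covers, of the form `D(φ)`.
-/

set_option autoImplicit false
universe u
open CategoryTheory CategoryTheory.Limits MonoidalCategory CartesianMonoidalCategory MonObj
  AlgebraicGeometry Opposite

noncomputable section

namespace Groth.Agent.H1.HomDiag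

open Groth.Agent.H43.MT Groth.Agent.H37.ChowFormal Groth.Agent.H91.MultGa
open GmPts (baseZ toBaseZ)

/-- transport of a diagonalisation chart along a morphism of bases. -/
theorem chart_iso {S U Y : Scheme.{u}} (G : Over S) [GrpObj G] (g : U ⟶ S) (M : Type)
    [AddCommGroup M] (e : Grp.mk (Red.bc g G) ≅ Grp.mk (Red.DS U M)) (k : Y ⟶ U) (gY : Y ⟶ S)
    (h : k ≫ g = gY) : ∃ α : Red.bc gY G ≅ Red.DS Y M, IsMonHom α.hom := by
  let e₀ := isoOfGrpIso e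
  let ε₁ := JIso k g gY h G
  let ε₂ := (Over.pullback k).mapIso e₀
  let ε₃ := JIso k (toBaseZ U) (toBaseZ Y) (specULiftZIsTerminal.hom_ext _ _)
    (Red.diag (ULift.{u} ℤ) M)
  haveI hε₁ : IsMonHom ε₁.hom := J_isMonHom k g gY h G
  haveI hε₂ : IsMonHom ε₂.hom := by
    dsimp only [ε₂, Functor.mapIso_hom]
    infer_instance
  haveI hε₃ : IsMonHom ε₃.hom :=
    J_isMonHom k (toBaseZ U) (toBaseZ Y) (specULiftZIsTerminal.hom_ext _ _)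
      (Red.diag (ULift.{u} ℤ) M)
  haveI hε₁' : IsMonHom ε₁.inv := inferInstance
  refine ⟨ε₁.symm ≪≫ ε₂ ≪≫ ε₃, ?_⟩
  simp only [Iso.trans_hom, Iso.symm_hom]
  infer_instance

/-- core of (LS): no finiteness assumption on the source side. -/
theorem locSplit_core {S : Scheme.{u}} (G H : Over S) [GrpObj G] [GrpObj H] (u : G ⟶ H) [IsMonHom u]
    {S₁ S₂ : Scheme.{u}} (f₁ : S₁ ⟶ S) (f₂ : S₂ ⟶ S)
    (hG : ∀ s' : S₁, ∃ U : S₁.Opens, s' ∈ U ∧ ∃ (M : Type) (_ : AddCommGroup M),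
      Nonempty (Grp.mk (Red.bc (U.ι ≫ f₁) G) ≅ Grp.mk (Red.DS (U : Scheme.{u}) M)))
    (hH : ∀ s' : S₂, ∃ U : S₂.Opens, s' ∈ U ∧ ∃ (M : Type) (_ : AddCommGroup M), AddGroup.FG M ∧
      Nonempty (Grp.mk (Red.bc (U.ι ≫ f₂) H) ≅ Grp.mk (Red.DS (U : Scheme.{u}) M)))
    (w : ↥(Limits.pullback f₁ f₂)) :
    ∃ (X : Scheme.{u}) (j : X ⟶ Limits.pullback f₁ f₂), IsOpenImmersion j ∧ w ∈ Set.range j.base ∧
      ∃ (N M : Type) (_ : AddCommGroup N) (_ : AddCommGroup M) (φ : N →+ M),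
        Sim ((Over.pullback (j ≫ Limits.pullback.fst f₁ f₂ ≫ f₁)).map u) (Red.DSmap X φ) := by
  obtain ⟨O₁, hO₁, M, _, ⟨e₁⟩⟩ := hG ((pullback.fst f₁ f₂).base w)
  obtain ⟨O₂, hO₂, N, _, hN, ⟨e₂⟩⟩ := hH ((pullback.snd f₁ f₂).base w)
  let Y : (pullback f₁ f₂).Opens := (pullback.fst f₁ f₂) ⁻¹ᵁ O₁ ⊓ (pullback.snd f₁ f₂) ⁻¹ᵁ O₂
  have hwY : w ∈ Y := ⟨hO₁, hO₂⟩
  have hr₁ : Set.range (Y.ι ≫ pullback.fst f₁ f₂).base ⊆ Set.range O₁.ι.base := by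
    rintro _ ⟨a, rfl⟩
    rw [Scheme.Opens.range_ι]
    exact a.2.1
  have hr₂ : Set.range (Y.ι ≫ pullback.snd f₁ f₂).base ⊆ Set.range O₂.ι.base := by
    rintro _ ⟨a, rfl⟩
    rw [Scheme.Opens.range_ι]
    exact a.2.2
  let k₁ : (Y : Scheme.{u}) ⟶ (O₁ : Scheme.{u}) :=
    IsOpenImmersion.lift O₁.ι (Y.ι ≫ pullback.fst f₁ f₂) hr₁
  let k₂ : (Y : Scheme.{u}) ⟶ (O₂ : Scheme.{u}) :=
    IsOpenImmersion.lift O₂.ι (Y.ι ≫ pullback.snd f₁ f₂) hr₂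
  have hk₁ : k₁ ≫ O₁.ι = Y.ι ≫ pullback.fst f₁ f₂ := IsOpenImmersion.lift_fac _ _ _
  have hk₂ : k₂ ≫ O₂.ι = Y.ι ≫ pullback.snd f₁ f₂ := IsOpenImmersion.lift_fac _ _ _
  let gY : (Y : Scheme.{u}) ⟶ S := Y.ι ≫ pullback.fst f₁ f₂ ≫ f₁
  have hg₁ : k₁ ≫ (O₁.ι ≫ f₁) = gY := by
    rw [← Category.assoc, hk₁, Category.assoc]
  have hg₂ : k₂ ≫ (O₂.ι ≫ f₂) = gY := by
    rw [← Category.assoc, hk₂, Category.assoc, ← pullback.condition]
  obtain ⟨α, hα⟩ := chart_iso G (O₁.ι ≫ f₁) M e₁ k₁ gY hg₁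
  obtain ⟨β, hβ⟩ := chart_iso H (O₂.ι ≫ f₂) N e₂ k₂ gY hg₂
  haveI := hα
  haveI := hβ
  haveI : IsMonHom α.inv := inferInstance
  haveI : IsMonHom ((Over.pullback gY).map u) := inferInstance
  let v : Red.DS (Y : Scheme.{u}) M ⟶ Red.DS (Y : Scheme.{u}) N :=
    α.inv ≫ (Over.pullback gY).map u ≫ β.hom
  haveI : IsMonHom v := by
    dsimp only [v]
    infer_instance
  obtain ⟨X, j', hj', ⟨x, hx⟩, φ, hS⟩ := classify_local hN v (⟨w, hwY⟩ : (Y : Scheme.{u}))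
  haveI := hj'
  refine ⟨X, j' ≫ Y.ι, inferInstance, ⟨x, ?_⟩, N, M, inferInstance, inferInstance, φ, ?_⟩
  · change Y.ι.base (j'.base x) = w
    rw [hx]
    rfl
  · have S1 : Sim ((Over.pullback ((j' ≫ Y.ι) ≫ pullback.fst f₁ f₂ ≫ f₁)).map u)
        ((Over.pullback j').map ((Over.pullback gY).map u)) :=
      (Sim.bc_comp j' gY _ (Category.assoc _ _ _).symm u).symm
    have S2 : Sim ((Over.pullback gY).map u) v := by
      refine ⟨α, β, ?_⟩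
      dsimp only [v]
      rw [Iso.hom_inv_id_assoc]
    exact S1.trans ((Sim.map j' S2).trans hS)

/-- (LS) -/
theorem locSplit {S : Scheme.{u}} (G H : Over S) [GrpObj G] [GrpObj H] (u : G ⟶ H) [IsMonHom u]
    {S₁ S₂ : Scheme.{u}} (f₁ : S₁ ⟶ S) (f₂ : S₂ ⟶ S)
    (hG : ∀ s' : S₁, ∃ U : S₁.Opens, s' ∈ U ∧ ∃ (M : Type) (_ : AddCommGroup M), AddGroup.FG M ∧
      Nonempty (Grp.mk (Red.bc (U.ι ≫ f₁) G) ≅ Grp.mk (Red.DS (U : Scheme.{u}) M)))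
    (hH : ∀ s' : S₂, ∃ U : S₂.Opens, s' ∈ U ∧ ∃ (M : Type) (_ : AddCommGroup M), AddGroup.FG M ∧
      Nonempty (Grp.mk (Red.bc (U.ι ≫ f₂) H) ≅ Grp.mk (Red.DS (U : Scheme.{u}) M)))
    (w : ↥(Limits.pullback f₁ f₂)) :
    ∃ (X : Scheme.{u}) (j : X ⟶ Limits.pullback f₁ f₂), IsOpenImmersion j ∧ w ∈ Set.range j.base ∧
      ∃ (N M : Type) (_ : AddCommGroup N) (_ : AddCommGroup M) (φ : N →+ M),
        Sim ((Over.pullback (j ≫ Limits.pullback.fst f₁ f₂ ≫ f₁)).map u) (Red.DSmap X φ) := by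
  refine locSplit_core G H u f₁ f₂ (fun s' => ?_) hH w
  obtain ⟨U, hU, M, i, -, he⟩ := hG s'
  exact ⟨U, hU, M, i, he⟩

end Groth.Agent.H1.HomDiag
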