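import Groth.Agent.H1.HomDiag.HomGroupLike
import Groth.Agent.H32.GroupLikeLocal
import Groth.Agent.H43.MTFrame
import Groth.Agent.H91.MultGa

/-!
# H1/HomDiag/Classify: local classification of homomorphisms `D(M) ⟶ D(N)` (`N` finitely
generated): locally on the base they are of the form `D(φ)`.
-/

set_option autoImplicit false
universe u
open CategoryTheory CategoryTheory.Limits MonoidalCategory CartesianMonoidalCategory MonObj
  AlgebraicGeometry Opposite

noncomputable section

namespace Groth.Agent.H1.HomDiag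

open MonoidAlgebra Groth.Agent.H91.DiagGa Groth.Agent.H91.PrimZero Groth.Agent.H1.SplitTori

variable {R : Type u} [CommRing R] {M N : Type} [AddCommGroup M] [AddCommGroup N]

theorem DSmap_comp_chi (S : Scheme.{u}) (φ : N →+ M) (n : N) :
    Red.DSmap S φ ≫ Red.chi S n = Red.chi S (φ n) := by
  unfold Red.chi
  rw [← Groth.Agent.H27.DiagHom.DSmap_comp]
  congr 1
  ext
  simp

/-- (CA) -/
theorem classify_affine (hN : AddGroup.FG N)
    (v : Red.DS (Spec (CommRingCat.of R)) M ⟶ Red.DS (Spec (CommRingCat.of R)) N) [IsMonHom v]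
    (p : Ideal R) [p.IsPrime] :
    ∃ (e : R) (φ : N →+ M), e ∉ p ∧
      ∀ (T : Over (Spec (CommRingCat.of R))) (t : T ⟶ Red.DS (Spec (CommRingCat.of R)) M),
        IsUnit (Groth.Agent.H91.DiagGa.sHom R T e) →
          t ≫ v = t ≫ Red.DSmap (Spec (CommRingCat.of R)) φ := by
  obtain ⟨c, c_add, c_zero, c_gl, key⟩ := hom_grouplike v
  obtain ⟨e, φ, hep, hc⟩ :=
    Groth.Agent.H32.GroupLikeLocal.grouplike_local hN c c_add c_zero c_gl p
  refine ⟨e, φ, hep, fun T t hu => ?_⟩
  apply hom_ext_chi
  intro n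
  apply gm_ext
  rw [Category.assoc, Category.assoc, key, DSmap_comp_chi, gmFn_chi]
  have h1 := congrArg (Xi M t) (hc n)
  rw [map_mul, Xi_single, Xi_single, ← MonoidAlgebra.one_def, map_one, _root_.mul_one] at h1
  exact hu.mul_left_cancel h1

end Groth.Agent.H1.HomDiag
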