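import Groth.Agent.H1.HomDiag.Classify

/-!
# H1/HomDiag/ClassifyLocal: over an arbitrary base, a homomorphism `D(M) ⟶ D(N)` (`N` finitely
generated) is Zariski-locally on the base of the form `D(φ)` (up to isomorphism of arrows).
-/

set_option autoImplicit false
universe u
open CategoryTheory CategoryTheory.Limits MonoidalCategory CartesianMonoidalCategory MonObj
  AlgebraicGeometry Opposite

noncomputable section

namespace Groth.Agent.H1.HomDiag

open Groth.Agent.H91.DiagGa Groth.Agent.H43.MT Groth.Agent.H37.ChowFormal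
open GmPts (baseZ toBaseZ)

/-- affine case of (CL). -/
theorem classify_local_affine {R : Type u} [CommRing R] {Y : Scheme.{u}}
    (j₀ : Spec (CommRingCat.of R) ⟶ Y)
    {M N : Type} [AddCommGroup M] [AddCommGroup N] (hN : AddGroup.FG N)
    (v : Red.DS Y M ⟶ Red.DS Y N) [IsMonHom v] (x₀ : Spec (CommRingCat.of R)) :
    ∃ (X : Scheme.{u}) (jX : X ⟶ Spec (CommRingCat.of R)), IsOpenImmersion jX ∧
      x₀ ∈ Set.range jX.base ∧
      ∃ φ : N →+ M, Sim ((Over.pullback (jX ≫ j₀)).map v) (Red.DSmap X φ) := by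
  let JM := JIso j₀ (toBaseZ Y) (toBaseZ (Spec (CommRingCat.of R)))
    (specULiftZIsTerminal.hom_ext _ _) (Red.diag (ULift.{u} ℤ) M)
  let JN := JIso j₀ (toBaseZ Y) (toBaseZ (Spec (CommRingCat.of R)))
    (specULiftZIsTerminal.hom_ext _ _) (Red.diag (ULift.{u} ℤ) N)
  haveI hJM : IsMonHom JM.hom := J_isMonHom j₀ (toBaseZ Y) (toBaseZ (Spec (CommRingCat.of R)))
    (specULiftZIsTerminal.hom_ext _ _) (Red.diag (ULift.{u} ℤ) M)
  haveI hJN : IsMonHom JN.hom := J_isMonHom j₀ (toBaseZ Y) (toBaseZ (Spec (CommRingCat.of R)))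
    (specULiftZIsTerminal.hom_ext _ _) (Red.diag (ULift.{u} ℤ) N)
  haveI hJM' : IsMonHom JM.inv := inferInstance
  haveI hv' : IsMonHom ((Over.pullback j₀).map v) := inferInstance
  let v₀ : Red.DS (Spec (CommRingCat.of R)) M ⟶ Red.DS (Spec (CommRingCat.of R)) N :=
    JM.inv ≫ (Over.pullback j₀).map v ≫ JN.hom
  haveI : IsMonHom v₀ := by
    dsimp only [v₀]
    infer_instance
  haveI : x₀.asIdeal.IsPrime := x₀.isPrime
  obtain ⟨e, φ, hep, hpts⟩ := classify_affine hN v₀ x₀.asIdeal
  let jX : Spec (CommRingCat.of (Localization.Away e)) ⟶ Spec (CommRingCat.of R) :=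
    Spec.map (CommRingCat.ofHom (algebraMap R (Localization.Away e)))
  refine ⟨Spec (CommRingCat.of (Localization.Away e)), jX, inferInstance, ?_, φ, ?_⟩
  · have hr := PrimeSpectrum.localization_away_comap_range (Localization.Away e) e
    have hx : x₀ ∈ (PrimeSpectrum.basicOpen e : Set (PrimeSpectrum R)) := hep
    rw [← hr] at hx
    obtain ⟨x₁, hx₁⟩ := hx
    exact ⟨x₁, hx₁⟩
  · have S1 : Sim ((Over.pullback (jX ≫ j₀)).map v)
        ((Over.pullback jX).map ((Over.pullback j₀).map v)) :=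
      (Sim.bc_comp jX j₀ (jX ≫ j₀) rfl v).symm
    have S2 : Sim ((Over.pullback j₀).map v) v₀ := by
      refine ⟨JM, JN, ?_⟩
      dsimp only [v₀]
      rw [Iso.hom_inv_id_assoc]
    have S3 := Sim.map jX S2
    have S4 : (Over.pullback jX).map v₀ =
        (Over.pullback jX).map (Red.DSmap (Spec (CommRingCat.of R)) φ) := by
      apply Over.OverMorphism.ext
      apply pullback.hom_ext
      · rw [(Groth.Agent.H27.isPullback_pullback_map_left jX v₀).w,
          (Groth.Agent.H27.isPullback_pullback_map_left jX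
            (Red.DSmap (Spec (CommRingCat.of R)) φ)).w]
        let T : Over (Spec (CommRingCat.of R)) :=
          Over.mk (pullback.fst (Red.DS (Spec (CommRingCat.of R)) M).hom jX ≫
            (Red.DS (Spec (CommRingCat.of R)) M).hom)
        let t : T ⟶ Red.DS (Spec (CommRingCat.of R)) M :=
          Over.homMk (pullback.fst (Red.DS (Spec (CommRingCat.of R)) M).hom jX) rfl
        have hu : IsUnit (sHom R T e) := by
          have hT : T.hom = pullback.snd (Red.DS (Spec (CommRingCat.of R)) M).hom jX ≫ jX :=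
            pullback.condition
          change IsUnit (T.hom.appTop ((Scheme.ΓSpecIso (CommRingCat.of R)).inv e))
          rw [hT, GmPts.appTop_comp_apply]
          apply IsUnit.map
          change IsUnit ((Spec.map (CommRingCat.ofHom (algebraMap R (Localization.Away e)))).appTop
            ((Scheme.ΓSpecIso (CommRingCat.of R)).inv e))
          rw [specMap_appTop_ΓSpecIso_inv]
          apply IsUnit.map
          exact IsLocalization.Away.algebraMap_isUnit e
        have := congrArg (fun ψ => ψ.left) (hpts T t hu)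
        simpa [t] using this
      · exact (Over.w ((Over.pullback jX).map v₀)).trans
          (Over.w ((Over.pullback jX).map (Red.DSmap (Spec (CommRingCat.of R)) φ))).symm
    rw [S4] at S3
    exact S1.trans (S3.trans (Sim.dsmap jX φ))

/-- (CL) -/
theorem classify_local {Y : Scheme.{u}} {M N : Type} [AddCommGroup M] [AddCommGroup N]
    (hN : AddGroup.FG N) (v : Red.DS Y M ⟶ Red.DS Y N) [IsMonHom v] (y : Y) :
    ∃ (X : Scheme.{u}) (j : X ⟶ Y), IsOpenImmersion j ∧ y ∈ Set.range j.base ∧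
      ∃ φ : N →+ M, Sim ((Over.pullback j).map v) (Red.DSmap X φ) := by
  obtain ⟨_, ⟨Y₀, hY₀, rfl⟩, hyY₀, -⟩ :=
    Y.isBasis_affineOpens.exists_subset_of_mem_open (Set.mem_univ y) isOpen_univ
  obtain ⟨Y₀, rfl⟩ : ∃ Y₀' : Y.Opens, Y₀' = Y₀ := ⟨Y₀, rfl⟩
  let j₀ : Spec (CommRingCat.of Γ(Y, Y₀)) ⟶ Y := hY₀.fromSpec
  haveI : IsOpenImmersion j₀ := hY₀.isOpenImmersion_fromSpec
  have hr : Set.range j₀.base = (Y₀ : Set Y) := hY₀.range_fromSpec
  obtain ⟨x₀, hx₀⟩ : y ∈ Set.range j₀.base := by rw [hr]; exact hyY₀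
  obtain ⟨X, jX, hjX, ⟨x₁, hx₁⟩, φ, hS⟩ := classify_local_affine j₀ hN v x₀
  haveI := hjX
  refine ⟨X, jX ≫ j₀, inferInstance, ⟨x₁, ?_⟩, φ, hS⟩
  change j₀.base (jX.base x₁) = y
  rw [hx₁]
  exact hx₀

end Groth.Agent.H1.HomDiag
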