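import Groth.Agent.H91.KummerKer
import Groth.Agent.H27.DiagHom
import Groth.Agent.H27.DiagMap
import Groth.Agent.H1.SplitTori.Killed
import Mathlib.AlgebraicGeometry.Morphisms.FlatDescent

/-!
# H1/HomDiag/Crit: criteria for `D_S(φ) : D_S(M) ⟶ D_S(N)` (`φ : N →+ M`) to be a monomorphism,
an isomorphism, faithfully flat.
-/

set_option autoImplicit false
universe u
open CategoryTheory CategoryTheory.Limits AlgebraicGeometry

namespace Groth.Agent.H1.HomDiag

open Groth.Agent.H27.DiagHom

variable (S : Scheme.{u}) {M N : Type} [AddCommGroup M] [AddCommGroup N]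

/-- (SQ-B1) -/
theorem mono_of_surjective (φ : N →+ M) (h : Function.Surjective φ) :
    Mono (Red.DSmap S φ).left := by
  have hcl : IsClosedImmersion (Red.DSmap S φ).left := by
    unfold Red.DSmap
    rw [Groth.Agent.H91.KummerKer.diagMap_eq]
    exact Groth.Agent.H27.dsMap_isClosedImmersion S φ h
  infer_instance

/-- (SQ-B2) -/
theorem surjective_of_mono [Nonempty S] (φ : N →+ M) (h : Mono (Red.DSmap S φ).left) :
    Function.Surjective φ := by
  haveI : Mono (Red.DSmap S φ) := Over.mono_of_mono_left _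
  let π : M →+ M ⧸ φ.range := QuotientAddGroup.mk' φ.range
  have h1 : Red.DSmap S π ≫ Red.DSmap S φ = Red.DSmap S (0 : M →+ M ⧸ φ.range) ≫ Red.DSmap S φ := by
    rw [← DSmap_comp, ← DSmap_comp]
    congr 1
    ext n
    simp only [AddMonoidHom.comp_apply, AddMonoidHom.zero_comp, AddMonoidHom.zero_apply]
    exact (QuotientAddGroup.eq_zero_iff _).mpr ⟨n, rfl⟩
  have h2 : Red.DSmap S π = Red.DSmap S (0 : M →+ M ⧸ φ.range) := (cancel_mono _).mp h1
  have h3 : π = 0 := Groth.Agent.H1.SplitTori.DSmap_injective' S h2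
  intro m
  have : π m = 0 := by rw [h3]; rfl
  exact (QuotientAddGroup.eq_zero_iff m).mp this

/-- (SQ-B3) -/
theorem isIso_of_bijective (φ : N →+ M) (h : Function.Bijective φ) :
    IsIso (Red.DSmap S φ).left := by
  let e : N ≃+ M := AddEquiv.ofBijective φ h
  have h1 : Red.DSmap S φ ≫ Red.DSmap S e.symm.toAddMonoidHom = 𝟙 _ := by
    rw [← DSmap_comp, ← DSmap_id]
    congr 1
    ext m
    exact e.apply_symm_apply m
  have h2 : Red.DSmap S e.symm.toAddMonoidHom ≫ Red.DSmap S φ = 𝟙 _ := by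
    rw [← DSmap_comp, ← DSmap_id]
    congr 1
    ext n
    exact e.symm_apply_apply n
  haveI : IsIso (Red.DSmap S φ) := ⟨⟨_, h1, h2⟩⟩
  exact (Over.forget S).map_isIso (Red.DSmap S φ)

/-- (B5) -/
theorem injective_of_epi [Nonempty S] (φ : N →+ M) (h : Epi (Red.DSmap S φ).left) :
    Function.Injective φ := by
  haveI : Epi (Red.DSmap S φ) := Over.epi_of_epi_left _
  let ι : φ.ker →+ N := φ.ker.subtype
  have h1 : Red.DSmap S φ ≫ Red.DSmap S ι = Red.DSmap S φ ≫ Red.DSmap S (0 : φ.ker →+ N) := by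
    rw [← DSmap_comp, ← DSmap_comp]
    congr 1
    ext k
    simp only [AddMonoidHom.comp_apply, AddMonoidHom.comp_zero, AddMonoidHom.zero_apply]
    exact k.2
  have h2 : Red.DSmap S ι = Red.DSmap S (0 : φ.ker →+ N) := (cancel_epi _).mp h1
  have h3 : ι = 0 := Groth.Agent.H1.SplitTori.DSmap_injective' S h2
  rw [injective_iff_map_eq_zero]
  intro n hn
  have : ι ⟨n, hn⟩ = 0 := by rw [h3]; rfl
  exact this

/-- (SQ-B4) -/
theorem bijective_of_isIso [Nonempty S] (φ : N →+ M) (h : IsIso (Red.DSmap S φ).left) :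
    Function.Bijective φ :=
  ⟨injective_of_epi S φ inferInstance, surjective_of_mono S φ inferInstance⟩

/-- (B5) -/
theorem injective_of_flat_surjective [Nonempty S] (φ : N →+ M)
    (h : Flat (Red.DSmap S φ).left ∧ Surjective (Red.DSmap S φ).left) : Function.Injective φ := by
  obtain ⟨h1, h2⟩ := h
  haveI : Epi (Red.DSmap S φ).left := Flat.epi_of_flat_of_surjective _
  exact injective_of_epi S φ inferInstance

end Groth.Agent.H1.HomDiag
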