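import Groth.Agent.H91.DiagGa2
import Groth.Agent.H1.SplitTori.Full
import Groth.Agent.H27.DiagHom

/-!
# H1/HomDiag/HomGroupLike: a homomorphism `D_R(M) ⟶ D_R(N)` over an affine base is given by a
multiplicative family of group-like elements `c n ∈ R[M]`, `n ∈ N`.
-/

set_option autoImplicit false
universe u
open CategoryTheory CategoryTheory.Limits MonoidalCategory CartesianMonoidalCategory MonObj
  AlgebraicGeometry Opposite

noncomputable section

namespace Groth.Agent.H1.HomDiag

open MonoidAlgebra Groth.Agent.H91.DiagGa Groth.Agent.H91.PrimZero Groth.Agent.H1.SplitTori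

variable {R : Type u} [CommRing R] {M N : Type} [AddCommGroup M] [AddCommGroup N]

theorem theta_Xi_id (G : MonoidAlgebra R (Multiplicative M)) :
    theta R M (Xi M (𝟙 (Red.DS (Spec (CommRingCat.of R)) M)) G) = G := by
  have h : (theta R M).comp (Xi M (𝟙 (Red.DS (Spec (CommRingCat.of R)) M))) =
      RingHom.id (MonoidAlgebra R (Multiplicative M)) := by
    refine MonoidAlgebra.ringHom_ext (fun r => ?_) (fun a => ?_)
    · rw [RingHom.comp_apply, Xi_single, ← MonoidAlgebra.one_def, map_one, _root_.mul_one]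
      exact theta_str R M r
    · obtain ⟨m, rfl⟩ := Multiplicative.ofAdd.surjective a
      rw [RingHom.comp_apply, Xi_single, map_one, _root_.one_mul]
      exact theta_ev R M m
  exact DFunLike.congr_fun h G

theorem Xi_id_theta (z : Γ((Red.DS (Spec (CommRingCat.of R)) M).left, ⊤)) :
    Xi M (𝟙 (Red.DS (Spec (CommRingCat.of R)) M)) (theta R M z) = z := by
  obtain ⟨G, rfl⟩ := Xi_id_surjective M (R := R) z
  rw [theta_Xi_id]

theorem gmFn_comp' {S : Scheme.{u}} {T T' : Over S} (g : T' ⟶ T) (x : T ⟶ Red.Gm S) :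
    Red.gmFn (g ≫ x) = g.left.appTop (Red.gmFn x) := by
  rw [gmFn_eq_ev, gmFn_eq_ev]
  exact ev_comp g x 1

theorem chi_add (S : Scheme.{u}) (n n' : N) :
    Red.chi S (n + n') = Red.chi S n * Red.chi S n' := by
  unfold Red.chi
  have h : zmultiplesHom N (n + n') = zmultiplesHom N n + zmultiplesHom N n' := by
    ext
    simp
  rw [h]
  exact Groth.Agent.H27.DiagHom.DSmap_add S _ _

theorem chi_zero (S : Scheme.{u}) : Red.chi S (0 : N) = 1 := by
  unfold Red.chi
  have h : zmultiplesHom N (0 : N) = 0 := by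
    ext
    simp
  rw [h]
  exact Groth.Agent.H27.DiagHom.DSmap_zero S

/-- (CLA) -/
theorem hom_grouplike
    (v : Red.DS (Spec (CommRingCat.of R)) M ⟶ Red.DS (Spec (CommRingCat.of R)) N) [IsMonHom v] :
    ∃ c : N → MonoidAlgebra R (Multiplicative M),
      (∀ n n', c (n + n') = c n * c n') ∧ c 0 = 1 ∧
      (∀ n, mapDomainRingHom R (iD M) (c n) =
        mapDomainRingHom R (i1 M) (c n) * mapDomainRingHom R (i2 M) (c n)) ∧
      ∀ (n : N) (T : Over (Spec (CommRingCat.of R))) (t : T ⟶ Red.DS (Spec (CommRingCat.of R)) M),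
        Red.gmFn (t ≫ v ≫ Red.chi (Spec (CommRingCat.of R)) n) = Xi M t (c n) := by
  let c : N → MonoidAlgebra R (Multiplicative M) := fun n =>
    theta R M (Red.gmFn (v ≫ Red.chi (Spec (CommRingCat.of R)) n))
  have key : ∀ (n : N) (T : Over (Spec (CommRingCat.of R)))
      (t : T ⟶ Red.DS (Spec (CommRingCat.of R)) M),
      Red.gmFn (t ≫ v ≫ Red.chi (Spec (CommRingCat.of R)) n) = Xi M t (c n) := by
    intro n T t
    rw [gmFn_comp', ← Xi_id_theta (Red.gmFn (v ≫ Red.chi (Spec (CommRingCat.of R)) n))]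
    have := DFunLike.congr_fun (Xi_comp M t (𝟙 _)) (c n)
    rw [Category.comp_id] at this
    rw [this]
    rfl
  refine ⟨c, ?_, ?_, ?_, key⟩
  · intro n n'
    change theta R M _ = theta R M _ * theta R M _
    rw [chi_add, MonObj.comp_mul, GmPts.gmFn_mul, map_mul]
  · change theta R M _ = 1
    rw [chi_zero, MonObj.comp_one, GmPts.gmFn_one, map_one]
  · intro n
    haveI := Groth.Agent.H91.KummerKer.chi_isMonHom (Spec (CommRingCat.of R)) n
    haveI : IsMonHom (v ≫ Red.chi (Spec (CommRingCat.of R)) n) := inferInstance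
    have h := key n _ (pt M (psiOf M (R := R) (i1 M)) * pt M (psiOf M (R := R) (i2 M)))
    rw [MonObj.mul_comp (pt M (psiOf M (R := R) (i1 M))) (pt M (psiOf M (R := R) (i2 M)))
        (v ≫ Red.chi (Spec (CommRingCat.of R)) n),
      GmPts.gmFn_mul, key, key, Xi_pt, Xi_pt, Xi_mul] at h
    simp only [RingHom.comp_apply] at h
    rw [← map_mul] at h
    have hinj : Function.Injective ((rmmIso M (R := R)).inv.hom) := by
      intro x y hxy
      have := congrArg (rmmIso M (R := R)).hom.hom hxy
      simpa using this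
    exact (hinj h).symm

end Groth.Agent.H1.HomDiag
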