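import Groth.Agent.H1.HomDiag.Classify
import Groth.Agent.H1.HomDiag.Crit

/-!
# H1/HomDiag/MonoTorus: over a field, a monomorphic homomorphism between split tori of the same rank
is an isomorphism.
-/

set_option autoImplicit false
universe u
open CategoryTheory CategoryTheory.Limits MonoidalCategory CartesianMonoidalCategory MonObj
  AlgebraicGeometry Opposite

noncomputable section

namespace Groth.Agent.H1.HomDiag

open Groth.Agent.H91.DiagGa

/-- over a field, every homomorphism `D(M) ⟶ D(N)` with `N` finitely generated is `D(φ)`. -/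
theorem eq_DSmap_of_field (k : Type u) [Field k] {M N : Type} [AddCommGroup M] [AddCommGroup N]
    (hN : AddGroup.FG N)
    (v : Red.DS (Spec (CommRingCat.of k)) M ⟶ Red.DS (Spec (CommRingCat.of k)) N) [IsMonHom v] :
    ∃ φ : N →+ M, v = Red.DSmap (Spec (CommRingCat.of k)) φ := by
  haveI : (⊥ : Ideal k).IsPrime := Ideal.isPrime_bot
  obtain ⟨e, φ, he, hpts⟩ := classify_affine hN v (⊥ : Ideal k)
  refine ⟨φ, ?_⟩
  have he0 : e ≠ 0 := fun h => he (by rw [h]; exact Ideal.zero_mem _)
  have := hpts _ (𝟙 (Red.DS (Spec (CommRingCat.of k)) M)) ((IsUnit.mk0 e he0).map _)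
  rwa [Category.id_comp, Category.id_comp] at this

theorem isIso_of_mono_torus (k : Type u) [Field k] (r : ℕ)
    (v : Red.DS (Spec (CommRingCat.of k)) (Fin r → ℤ) ⟶ Red.DS (Spec (CommRingCat.of k)) (Fin r → ℤ))
    [IsMonHom v] (h : Mono v.left) : IsIso v.left := by
  have hfg : AddGroup.FG (Fin r → ℤ) := Module.Finite.iff_addGroup_fg.mp inferInstance
  obtain ⟨φ, rfl⟩ := eq_DSmap_of_field k hfg v
  have hs : Function.Surjective φ := surjective_of_mono _ φ h
  have hi : Function.Injective φ :=
    OrzechProperty.injective_of_surjective_endomorphism φ.toIntLinearMap hs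
  exact isIso_of_bijective _ φ ⟨hi, hs⟩

end Groth.Agent.H1.HomDiag
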